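import Cfsg.Agent.IVL.Sol

/-! Project IVL: blocks of roots. -/

set_option autoImplicit false

namespace Cfsg.Agent.IVL

open Cfsg.Agent.H38 Cfsg.Agent.H39

variable {ι R : Type} [Fintype ι] [DecidableEq ι] {P : RS ι R}

/-- a nonempty invariant union of irreducible components of `Ψ` -/
structure Blk (S : Pairing P) (Ψ : Set R) (π : Equiv.Perm R) (Θ : Set R) : Prop where
  ne : Θ.Nonempty
  sub : Θ ⊆ Ψ
  map : ∀ r ∈ Θ, π r ∈ Θ
  conn : ∀ r ∈ Θ, ∀ s ∈ Ψ, S.p r s ≠ 0 → s ∈ Θ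

/-- there are no three pairwise disjoint blocks -/
def TwoBlk (S : Pairing P) (Ψ : Set R) (π : Equiv.Perm R) : Prop :=
  ∀ a b c, Blk S Ψ π a → Blk S Ψ π b → Blk S Ψ π c → Disjoint a b → Disjoint a c → ¬ Disjoint b c

end Cfsg.Agent.IVL
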