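import Cfsg.Agent.IVL.Mu
import Cfsg.Agent.H1.InvSylow
import Cfsg.Agent.H46.PCompCent
import Cfsg.Agent.H85.AlmostSimple

/-! Project IVL: the components of the centraliser of an involution and their blocks. -/

set_option autoImplicit false

namespace Cfsg.Agent.IVL

open Cfsg.Agent.H38 Cfsg.Agent.H39 Cfsg.Agent.H64 Cfsg.Agent.H37 Cfsg.Agent.H68 INVK.Ex
open Cfsg.Agent.H44 (Comp SN)

variable {ι R : Type} [Fintype ι] [DecidableEq ι] {P : RS ι R} {k : Type*} [Field k] {G : Type*} [Group G]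
  {X : RG P k G} {p : ℕ}

theorem comm_iff {A B : Subgroup G} : ⁅A, B⁆ = ⊥ ↔ ∀ a ∈ A, ∀ b ∈ B, a * b = b * a :=
  Subgroup.commutator_eq_bot_iff_le_centralizer.trans
    ⟨fun h a ha b hb => (h ha b hb).symm, fun h a ha b hb => (h a ha b hb).symm⟩

namespace Cen

variable [Fintype R] (C : Cen X p)

/-- `U` is a maximal `p`-subgroup -/
theorem le_U {Q : Subgroup G} (a2 : C.U ≤ Q) (h1 : Q ≤ C.Fx) (a4 : ∀ g ∈ Q, ∃ i, g ^ p ^ i = 1) : Q ≤ C.U := by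
  have a5 : ∀ g ∈ Q, ∀ w, X.Rep g w → (∃ a, w ^ 2 ^ a = 1) → w = 1 := fun g hg w hw ⟨a, ha⟩ => by
    obtain ⟨i, hi⟩ := a4 g hg
    exact (pow_eq_one_iff_of_coprime (Nat.Coprime.pow i a (Nat.coprime_two_right.2 C.odd))).1
      ⟨C.A.faith.rep_unique (hi ▸ rep_pow hw (p ^ i)) X.rep_one, ha⟩
  intro g hg
  obtain ⟨u, hu, n, w, b1, b2, u', hu', -, rfl⟩ := C.bruhat (h1 hg)
  have b4 : n ∈ Q := by simpa [mul_assoc] using mul_mem (mul_mem (inv_mem (a2 hu)) hg) (inv_mem (a2 hu'))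
  obtain rfl := a5 n b4 w b1 (C.exists_two b1 b2 fun r hr => by_contra fun h => by
    obtain ⟨-, s, -, m, -, v, c1, c2, c3, -, c4⟩ := C.so (T := {s | s ∈ C.Pp ∧ ¬ P.Pos (w s)}) (fun _ h => h.1)
      (fun a ha b hb j hj => ⟨C.cl.cl a ha.1 b hb.1 j hj, (hj.map b1.mem_W).not_pos ha.2 hb.2⟩)
      (fun a ha => ⟨C.π_Pp a ha.1, mt (C.w_pos b1 b2 ha.1.2).1 ha.2⟩) ⟨r, hr, h⟩
    rw [a5 m (c4 Q a2 n ⟨b4, b2⟩ w b1 fun s hs => hs.2) v c1 ⟨1, by simpa [pow_two] using c2⟩] at c3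
    exact P.ne_neg s c3)
  obtain ⟨i, hi⟩ := a4 n b4
  simpa [eq_one_of_mem_H C.A b1.mem_H hi] using mul_mem hu hu'

theorem nz_L {g : G} (hg : g ∈ C.Fx) : Nz g C.L C.L := by
  obtain ⟨l, b1, n, w, b2, b3, l', b4, rfl⟩ := C.exists_dec hg
  have b5 : n ∈ C.Fx := by
    simpa [mul_assoc] using mul_mem (mul_mem (inv_mem (C.L_le b1)) hg) (inv_mem (C.L_le b4))
  refine ((nz_self b1).mul fun x hx => ?_).mul (nz_self b4)
  exact (sup_le (a := C.U) (b := C.V) (c := C.L.comap (MulAut.conj n).toMonoidHom)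
    (fun u hu => Subgroup.mem_sup_left (C.conj_mem b2 b5 (fun r hr => And.intro (b3 r hr) (C.w_mem b2 b5 hr.2)) hu))
    fun u hu => Subgroup.mem_sup_right (C.conj_mem b2 b5 (fun r hr => And.intro (P.pos_neg_iff.1 (P.W_neg b2.mem_W r ▸
      b3 _ ⟨P.pos_neg_iff.2 hr.1, C.neg_mem hr.2⟩)) (C.w_mem b2 b5 hr.2)) hu)) hx

omit [Fintype R] in
theorem Ub_top : C.Ub (C.Ψ \ ∅) = C.U := by
  rw [Ub, Set.diff_empty, show C.Pp ∩ C.Ψ = C.Pp from Set.inter_eq_left.2 Set.inter_subset_right, U]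

variable {Y : Subgroup G}

theorem isPGroup_U : IsPGroup p (C.U.subgroupOf Y) := fun g =>
  have := C.A.char
  (exists_pow_char X p C.cl _ g.2.1).imp fun _ hi => Subtype.ext (Subtype.ext hi)

variable [Finite Y] (h1 : C.L ≤ Y) (h2 : Y ≤ C.Fx)
include h1 h2

theorem op_bot {N : Subgroup Y} (hN : N.IsSubnormal) (h : N ≤ C.U.subgroupOf Y) : N = ⊥ := by
  have a2 : pCore p Y = ⊥ := (Subgroup.map_eq_bot_iff_of_injective _ Y.subtype_injective).1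
    (C.eq_bot ((Y.map_subtype_le _).trans h2) (by
      rintro g hg _ ⟨m, hm, rfl⟩
      exact ⟨_, (inferInstance : (pCore p Y).Normal).conj_mem m hm ⟨g, h1 hg⟩, rfl⟩) (by
      rintro _ ⟨m, hm, rfl⟩
      exact (H44.pCore_isPGroup ⟨m, hm⟩).imp fun i hi => congrArg (fun x => x.1.1) hi))
  exact le_bot_iff.1 (a2 ▸ H44.le_pCore_of_subnormal hN (C.isPGroup_U.to_le h))

/-- the centraliser of `U` is solvable -/
theorem comm_ne {K : Subgroup Y} (hK : Comp ⊤ K) : ⁅K, C.U.subgroupOf Y⁆ ≠ ⊥ := fun h => by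
  have := Fact.mk C.A.prime
  have hU : C.U ≤ Y := le_sup_left.trans h1
  let N : Subgroup Y :=
    { carrier := {n | ∃ w, X.Rep n w ∧ ∀ r ∈ C.Pp, P.Pos (w r)}
      one_mem' := ⟨1, X.rep_one, fun r hr => hr.1⟩
      mul_mem' := fun {_ b} ⟨_, a1, a2⟩ ⟨_, b1, b2⟩ => ⟨_, a1.mul b1, fun r hr => a2 _ ⟨b2 r hr, C.w_mem b1 (h2 b.2) hr.2⟩⟩
      inv_mem' := fun {a} ⟨w, a1, a2⟩ => ⟨_, a1.inv, fun r hr => by_contra fun h => by
        simpa [P.W_neg a1.mem_W, P.pos_neg_iff, show P.Pos r from hr.1] using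
          a2 _ ⟨P.pos_neg_iff.2 h, C.neg_mem (C.w_mem a1.inv (inv_mem (h2 a.2)) hr.2)⟩⟩ }
  have a1 : ((X.H.subgroupOf Y).subgroupOf N).Normal := ⟨fun a ha ⟨g, w, b, _⟩ => b.conj_mem_H ha⟩
  have a2 : Group.IsSolvable N := by
    have b1 : IsPGroup 2 (N ⧸ (X.H.subgroupOf Y).subgroupOf N) := fun g => by
      obtain ⟨⟨g, w, b1, b2⟩, rfl⟩ := QuotientGroup.mk_surjective g
      obtain ⟨a, ha⟩ := C.exists_two b1 (h2 g.2) b2
      exact ⟨a, (QuotientGroup.eq_one_iff _).2 (ha ▸ rep_pow b1 _).mem_H⟩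
    have := Fact.mk Nat.prime_two
    have := b1.isNilpotent
    have : Group.IsSolvable ((X.H.subgroupOf Y).subgroupOf N) :=
      Group.isSolvable_of_comm fun a b => Subtype.ext (Subtype.ext (Subtype.ext (C.A.Hcomm _ a.2 _ b.2)))
    exact Group.isSolvable_of_ker_le_range ((X.H.subgroupOf Y).subgroupOf N).subtype
      (QuotientGroup.mk' ((X.H.subgroupOf Y).subgroupOf N)) (by simp)
  refine hK.qs.not_le_solvable (H46.isSolvable_of_isPGroup C.isPGroup_U) (H46.le_of_perfect_of_le_sup hK.perfect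
    (le_normalizer_of_nz ?_) a2 fun g hg => ?_)
  · rintro n ⟨w, b1, b2⟩ u hu
    exact C.conj_mem b1 (h2 n.2) (fun r hr => ⟨b2 r hr, C.w_mem b1 (h2 n.2) hr.2⟩) hu
  obtain ⟨u, hu, n, w, b1, b2, u', hu', -, e⟩ := C.bruhat (h2 g.2)
  have b5 : n ∈ Y := by simpa [e, mul_assoc] using mul_mem (mul_mem (inv_mem (hU hu)) g.2) (inv_mem (hU hu'))
  rw [show g = ⟨u, hU hu⟩ * ⟨n, b5⟩ * ⟨u', hU hu'⟩ from Subtype.ext e]
  refine mul_mem (mul_mem (Subgroup.mem_sup_left hu) (Subgroup.mem_sup_right ⟨w, b1, fun r hr => by_contra fun c => ?_⟩))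
    (Subgroup.mem_sup_left hu')
  obtain ⟨⟨z, z1, z2⟩, -⟩ := C.so (T := {s | s ∈ C.Pp ∧ ¬ P.Pos (w s)}) (fun _ h => h.1)
    (fun a ha b hb j hj => ⟨C.cl.cl a ha.1 b hb.1 j hj, (hj.map b1.mem_W).not_pos ha.2 hb.2⟩)
    (fun a ha => ⟨C.π_Pp a ha.1, mt (C.w_pos b1 b2 ha.1.2).1 ha.2⟩) ⟨r, hr, c⟩
  have z3 : u'⁻¹ * z * u' ∈ C.U := mul_mem (mul_mem (inv_mem hu') ⟨X.US_mono (fun _ h => h.1) z1.1, z1.2⟩) hu'
  have z4 : g.1 * (u'⁻¹ * z * u') = u'⁻¹ * z * u' * g.1 := congrArg Subtype.val (comm_iff.1 h g hg ⟨_, hU z3⟩ z3)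
  have z5 : n * z * n⁻¹ = u⁻¹ * (u'⁻¹ * z * u') * u := by
    rw [← mul_inv_eq_iff_eq_mul.2 z4, e]; group
  have z6 : n * z * n⁻¹ ∈ X.V := b1.acts.conj_mem (fun a ha => ha.2) z1.1
  exact z2 (by simpa using C.A.faith.eq_one_of_mem_B_V (X.U_le_B (C.U_le_U
    (z5 ▸ mul_mem (mul_mem (inv_mem hu) z3) hu))) z6)

theorem comp_le {K : Subgroup Y} (hK : Comp ⊤ K) : K ≤ C.L.subgroupOf Y :=
  (hK.le_or_commutator_eq_bot_of_le_normalizer le_top
    (le_normalizer_of_nz fun g _ x hx => C.nz_L (h2 g.2) x hx)).resolve_right fun h =>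
      C.comm_ne h1 h2 hK (H44.commutator_eq_bot_mono h le_rfl fun _ hx => Subgroup.mem_sup_left hx)

theorem comp_bk {K : Subgroup Y} (hK : Comp ⊤ K) {Θ : Set R} (h : C.Bk Θ) {M : Subgroup Y}
    (hM : C.U.subgroupOf Y ≤ Subgroup.normalizer M) (h3 : (C.Lb Θ).subgroupOf Y ≤ M ⊔ C.U.subgroupOf Y) :
    K ≤ M ∨ ⁅K, (C.Ub Θ).subgroupOf Y⁆ = ⊥ := by
  have := Fact.mk C.A.prime
  have a1 : K ≤ Subgroup.normalizer ((C.Lb Θ).subgroupOf Y) := le_normalizer_of_nz fun g hg x hx =>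
    (nz_of_mem (h.L_le (C.comp_le h1 h2 hK hg)) x.1 hx :)
  exact (hK.le_or_commutator_eq_bot_of_le_normalizer le_top a1).imp
    (fun e => H46.le_of_perfect_of_le_sup hK.perfect hM (H46.isSolvable_of_isPGroup C.isPGroup_U) (e.trans h3))
    fun e => H44.commutator_eq_bot_mono e le_rfl (Subgroup.comap_mono le_sup_left)

omit [Finite Y] in
theorem bk_Y {M : Subgroup Y} (hM : C.U.subgroupOf Y ≤ Subgroup.normalizer M)
    (h3 : ∀ K ≤ C.U.subgroupOf Y, M ≤ Subgroup.normalizer K → K ⊓ M = ⊥) : ∃ Θ, C.Bk Θ ∧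
      ⁅M, (C.Ub (C.Ψ \ Θ)).subgroupOf Y⁆ = ⊥ ∧ (C.Lb Θ).subgroupOf Y ≤ M ⊔ C.U.subgroupOf Y ∧
        ∀ T ⊆ Θ, C.Bk T → ⁅M, (C.Ub T).subgroupOf Y⁆ = ⊥ → T = ∅ := by
  have hU : C.U ≤ Y := le_sup_left.trans h1
  obtain ⟨Θ, a1, a2, a3, a4⟩ := C.exists_bk (M := M.map Y.subtype) ((Y.map_subtype_le _).trans h2)
    (by rintro u hu _ ⟨m, hm, rfl⟩; exact ⟨_, nz_of_mem (hM (x := ⟨u, hU hu⟩) hu) m hm, rfl⟩) (by
      rintro K b1 b2 _ b3 ⟨m, hm, rfl⟩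
      exact congrArg Subtype.val ((h3 (K.subgroupOf Y) (fun _ h => b1 h)
        (le_normalizer_of_nz fun g hg x hx => b2 g ⟨g, hg, rfl⟩ x hx)).le ⟨b3, hm⟩))
  refine ⟨Θ, a1, comm_iff.2 fun g hg u hu => Subtype.ext (a2 g ⟨g, hg, rfl⟩ u hu), ?_, fun T b1 b2 b3 => a4 T b1 b2 ?_⟩
  · rw [← Subgroup.map_le_map_iff_of_injective Y.subtype_injective, Subgroup.map_sup, Subgroup.subgroupOf_map_subtype,
      Subgroup.subgroupOf_map_subtype, inf_eq_left.2 hU]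
    exact inf_le_left.trans a3
  · rintro _ ⟨g, hg, rfl⟩ u hu
    exact congrArg Subtype.val (comm_iff.1 b3 g hg ⟨u, hU (C.Ub_le _ hu)⟩ hu)

/-- there is no component of order prime to `p` -/
theorem inf_ne {K : Subgroup Y} (hK : Comp ⊤ K) : C.U.subgroupOf Y ⊓ K ≠ ⊥ := fun h => by
  have := Fact.mk C.A.prime
  have hU : C.U ≤ Y := le_sup_left.trans h1
  obtain ⟨Q, hQ⟩ := (C.isPGroup_U (Y := Y)).exists_le_sylow
  have a1 : (Q : Subgroup Y) ≤ C.U.subgroupOf Y := fun g hg => C.le_U (Q := (Q : Subgroup Y).map Y.subtype)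
    (fun u hu => ⟨⟨u, hU hu⟩, hQ hu, rfl⟩) ((Y.map_subtype_le _).trans h2) (by
      rintro _ ⟨m, hm, rfl⟩
      exact (Q.isPGroup' ⟨m, hm⟩).imp fun i hi => congrArg (fun x => x.1.1) hi) ⟨g, hg, rfl⟩
  have a2 := H85.not_dvd_relIndex_of_sn Q hK.sn
  rw [← Subgroup.inf_relIndex_right, a1.antisymm hQ, h, Subgroup.relIndex_bot_left] at a2
  have a3 : K ≤ layer Y ⊓ pPrimeCore p Y := le_inf (H44.Eof_top (G := Y) ▸ hK.le_Eof)
    (H44.le_pPrimeCore_of_subnormal (H44.sn_top_iff.1 hK.sn) (H44.coprime_iff_not_dvd.2 a2))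
  refine C.comm_ne h1 h2 hK (Subgroup.commutator_eq_bot_iff_le_centralizer.2 (a3.trans
    (H44.le_of_sylow_le fun r _ _ => ?_)))
  obtain ⟨i, hi⟩ := (C.isPGroup_U (Y := Y)).exists_card_eq
  obtain ⟨T, hT⟩ := H1.invariant_sylow_exists (C.U.subgroupOf Y) (layer Y ⊓ pPrimeCore p Y)
    Subgroup.le_normalizer_of_normal (hi ▸ (H44.coprime_of_le_pPrimeCore inf_le_right).symm.pow_left i)
    (.inl (H46.isSolvable_of_isPGroup C.isPGroup_U)) r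
  refine ⟨T, Subgroup.commutator_eq_bot_iff_le_centralizer.1 ?_⟩
  have b1 := T.isPGroup'.map (layer Y ⊓ pPrimeCore p Y).subtype
  have b2 := Subgroup.map_subtype_le (T : Subgroup ↥(layer Y ⊓ pPrimeCore p Y))
  generalize (T : Subgroup ↥(layer Y ⊓ pPrimeCore p Y)).map (layer Y ⊓ pPrimeCore p Y).subtype = M at *
  obtain ⟨Θ, c1, c2, c3, c4⟩ := C.bk_Y h1 h2 hT fun K' d1 _ => (H44.disjoint_of_isPGroup_of_coprime
    (C.isPGroup_U.to_le d1) (H44.coprime_of_le_pPrimeCore (b2.trans inf_le_right))).eq_bot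
  rwa [c4 Θ subset_rfl c1 (H44.commutator_eq_bot_mono (H44.commutator_Eof_eq_bot (X := ⊤) fun K' d1 =>
    (C.comp_bk h1 h2 d1 c1 hT c3).resolve_left (d1.qs.not_le_solvable (H46.isSolvable_of_isPGroup b1)))
    (H44.Eof_top (G := Y) ▸ b2.trans inf_le_left) le_rfl), C.Ub_top] at c2

/-- `U` normalises the components -/
theorem U_le_normalizer {K : Subgroup Y} (hK : Comp ⊤ K) : C.U.subgroupOf Y ≤ Subgroup.normalizer K := by
  have hU : C.U ≤ Y := le_sup_left.trans h1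
  let D : Subgroup Y := ⨅ K : {K : Subgroup Y // Comp ⊤ K}, Subgroup.normalizer K.1
  have a0 : ∀ g : Y, ∀ K : Subgroup Y, Comp ⊤ K → Comp ⊤ (K.map (MulAut.conj g).toMonoidHom) := fun g K hK =>
    hK.conj (Subgroup.le_normalizer (Subgroup.mem_top g))
  have a1 : D.Normal := by
    suffices ∀ d ∈ D, ∀ g : Y, ∀ K : Subgroup Y, Comp ⊤ K → Nz (g * d * g⁻¹) K K from
      ⟨fun d hd g => Subgroup.mem_iInf.2 fun K => mem_normalizer_of_nz (this d hd g _ K.2)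
        (by simpa [mul_assoc] using this _ (inv_mem hd) g _ K.2)⟩
    refine fun d hd g K hK => (Nz.mul ?_ (nz_of_mem (Subgroup.mem_iInf.1 hd ⟨_, a0 g⁻¹ K hK⟩))).mul
      fun x hx => ⟨x, hx, rfl⟩
    rintro _ ⟨x, hx, rfl⟩
    simpa [mul_assoc] using hx
  suffices C.U ≤ D.map Y.subtype from fun u hu => by
    obtain ⟨d, hd, e⟩ := this hu
    exact Subtype.ext e ▸ Subgroup.mem_iInf.1 hd ⟨K, hK⟩
  refine C.U_le_of ?_ (fun g hg => ?_) fun z hz hz' => ⟨⟨z, hU hz⟩, Subgroup.mem_iInf.2 fun K => ?_, rfl⟩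
  · rintro g hg _ ⟨d, hd, rfl⟩
    exact ⟨_, a1.conj_mem d hd ⟨g, h1 hg⟩, rfl⟩
  · have b1 : generalizedFittingSubgroup Y ≤ D := le_iInf fun K => H44.FSof_top (G := Y) ▸ K.2.FSof_le_normalizer
    have b2 : (D ⊔ C.U.subgroupOf Y).map (QuotientGroup.mk' D) = (C.U.subgroupOf Y).map (QuotientGroup.mk' D) := by
      rw [Subgroup.map_sup, (Subgroup.map_eq_bot_iff _).2 (QuotientGroup.ker_mk' D).ge, bot_sup_eq]
    obtain ⟨i, hi⟩ := C.isPGroup_U.map (QuotientGroup.mk' D) ⟨_, b2.le (Subgroup.mem_map_of_mem _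
      ((C.L_le_gfit h1 h2).trans (sup_le_sup_right b1 _) (x := ⟨g, h1 hg⟩) hg))⟩
    exact ⟨i, (⟨g, h1 hg⟩ : Y) ^ p ^ i, (QuotientGroup.eq_one_iff _).1
      ((map_pow (QuotientGroup.mk' D) _ _).trans (congrArg Subtype.val hi)), rfl⟩
  rcases K.2.eq_or_commutator_eq_bot (a0 ⟨z, hU hz⟩ _ K.2) with e | e
  · exact Subgroup.mem_normalizer_iff_map_conj_eq.2 e.symm
  refine absurd (C.op_bot h1 h2 (H44.sn_top_iff.1 (K.2.sn.trans (SN.of_le_normalizer inf_le_right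
    (H44.le_normalizer_of_commutator_eq_bot (H44.commutator_eq_bot_mono e le_rfl fun s hs => ⟨s, hs.2, ?_⟩)))))
    inf_le_left) (C.inf_ne h1 h2 K.2)
  exact Subtype.ext (mul_inv_eq_iff_eq_mul.2 (hz' s hs.1).symm)

/-- different components have disjoint blocks -/
theorem exists_blk : ∃ b : Subgroup Y → Set R, (∀ K, Comp ⊤ K → C.Bk (b K) ∧ (b K).Nonempty) ∧
    ∀ K K', Comp ⊤ K → Comp ⊤ K' → K ≠ K' → Disjoint (b K) (b K') := by
  choose! b a1 a2 a3 a4 using fun (K : Subgroup Y) (hK : Comp ⊤ K) => C.bk_Y h1 h2 (C.U_le_normalizer h1 h2 hK)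
    fun N c1 c2 => C.op_bot h1 h2 (H44.sn_top_iff.1 (hK.sn.trans (SN.of_le_normalizer inf_le_right
      ((le_inf c2 Subgroup.le_normalizer).trans (Subgroup.inf_normalizer_le_normalizer_inf))))) (inf_le_left.trans c1)
  refine ⟨b, fun K hK => ⟨a1 K hK, Set.nonempty_iff_ne_empty.2 fun e => C.comm_ne h1 h2 hK ?_⟩,
    fun K K' hK hK' e => Set.disjoint_iff_inter_eq_empty.2 (a4 K hK _ Set.inter_subset_left ((a1 K hK).inter (a1 K' hK'))
      (H44.commutator_eq_bot_mono ((C.comp_bk h1 h2 hK (a1 K' hK') (C.U_le_normalizer h1 h2 hK')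
        (a3 K' hK')).resolve_left (mt (hK.eq_of_le hK') e)) le_rfl fun _ h =>
          ⟨X.US_mono (Set.inter_subset_inter_right _ Set.inter_subset_right) h.1, h.2⟩))⟩
  simpa only [e, C.Ub_top] using a2 K hK

end Cen

end Cfsg.Agent.IVL
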