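import Cfsg.Agent.IVL.Per
import Cfsg.Agent.H64.BorelTits

/-! Project IVL: the block of roots attached to a subgroup normalised by the unipotent group. -/

set_option autoImplicit false

namespace Cfsg.Agent.IVL

open Cfsg.Agent.H38 Cfsg.Agent.H39 Cfsg.Agent.H64 Cfsg.Agent.H37 Cfsg.Agent.H68 INVK.Ex

variable {ι R : Type} [Fintype ι] [DecidableEq ι] {P : RS ι R} {k : Type*} [Field k] {G : Type*} [Group G]
  {X : RG P k G} {p : ℕ}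

namespace Cen

variable (C : Cen X p) {Θ Θ' : Set R} {r s : R}

/-- an invariant union of irreducible components -/
structure Bk (Θ : Set R) : Prop where
  sub : Θ ⊆ C.Ψ
  map : ∀ r ∈ Θ, C.π r ∈ Θ
  conn : ∀ r ∈ Θ, ∀ s ∈ C.Ψ, C.S.p r s ≠ 0 → s ∈ Θ

/-- the positive unipotent group of a block -/
def Ub (Θ : Set R) : Subgroup G := X.US (C.Pp ∩ Θ) ⊓ Fix' C.ν

/-- the group of a block -/
def Lb (Θ : Set R) : Subgroup G := C.Ub Θ ⊔ X.US (C.Pm ∩ Θ) ⊓ Fix' C.ν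

theorem Ub_le (Θ : Set R) : C.Ub Θ ≤ C.U := inf_le_inf_right _ (X.US_mono Set.inter_subset_left)

theorem Lb_le (Θ : Set R) : C.Lb Θ ≤ C.L :=
  sup_le_sup (C.Ub_le Θ) (inf_le_inf_right _ (X.US_mono Set.inter_subset_left))

theorem clm : P.Cl (-C.F) C.Pm := ⟨fun a ha b hb j hj => ⟨hj.not_pos ha.1 hb.1, C.comb ha.2 hb.2 hj⟩, fun r hr => by
  simpa [P.cf_neg] using C.pos _ (C.neg_mem hr.2) (P.pos_neg_iff.2 hr.1)⟩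

namespace Bk

variable {C} (h : C.Bk Θ)
include h

theorem inter (h' : C.Bk Θ') : C.Bk (Θ ∩ Θ') := ⟨fun _ hr => h.sub hr.1, fun r hr => ⟨h.map r hr.1, h'.map r hr.2⟩,
  fun r hr s hs e => ⟨h.conn r hr.1 s hs e, h'.conn r hr.2 s hs e⟩⟩

theorem neg (hr : r ∈ Θ) : P.neg r ∈ Θ :=
  h.conn r hr _ (C.neg_mem (h.sub hr)) (by rw [C.S.neg_right, C.S.self]; omega)

theorem ideal (hr : r ∈ C.Ψ) (hs : s ∈ Θ) {j : R} (hj : P.Comb r s j) : j ∈ Θ := by_contra fun e => by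
  obtain ⟨a, b, -, hb, -, e'⟩ := C.S.comb hj
  have h1 : C.S.p s j = 0 := by_contra fun h1 => e (h.conn s hs j (C.comb hr (h.sub hs) hj) h1)
  have h2 := e' j
  have h3 := e' s
  rw [C.S.self, C.S.zero_comm h1] at h2
  rw [C.S.self, h1] at h3
  exact e (h.conn r (h.conn s hs r hr fun h4 => by rw [h4] at h3; omega) j (C.comb hr (h.sub hs) hj) fun h4 => by
    rw [C.S.zero_comm h4] at h2; omega)

theorem cl {f : (ι → ℤ) →ₗ[ℤ] ℤ} {T : Set R} (hT : P.Cl f T) : P.Cl f (T ∩ Θ) :=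
  ⟨fun a ha b hb j hj => ⟨hT.cl a ha.1 b hb.1 j hj, h.ideal (h.sub ha.2) hb.2 hj⟩, fun a ha => hT.pos a ha.1⟩

theorem nz {u : G} (hu : u ∈ C.U) : Nz u (C.Ub Θ) (C.Ub Θ) := fun _ hx =>
  ⟨X.US_conj_mem (fun a ha b hb => ⟨C.cl.ne_neg ha hb.1, fun j hj =>
    And.intro (C.cl.cl a ha b hb.1 j hj) (h.ideal ha.2 hb.2 hj)⟩) hu.1 hx.1,
    (Fix' C.ν).mul_mem ((Fix' C.ν).mul_mem hu.2 hx.2) ((Fix' C.ν).inv_mem hu.2)⟩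

variable [Fintype R]

theorem compl : C.Bk (C.Ψ \ Θ) := ⟨Set.diff_subset, fun r hr => ⟨C.π_mem hr.1, fun e => hr.2 (by
  simpa [← pow_succ, ← Equiv.Perm.mul_apply, Nat.sub_add_cancel (orderOf_pos C.π)] using
    pow_mem_of h.map (orderOf C.π - 1) e)⟩,
  fun r hr s hs e => ⟨hs, fun e' => hr.2 (h.conn s e' r hr.1 (mt C.S.zero_comm e))⟩⟩

theorem comm {g g' : G} (hg : g ∈ X.US Θ) (hg' : g' ∈ X.US (C.Ψ \ Θ)) : g * g' = g' * g :=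
  Subgroup.mem_centralizer_singleton_iff.1 (US_le_centralizer _ (fun a ha t =>
    (Subgroup.mem_centralizer_singleton_iff.1 (US_le_centralizer _ (fun b hb u => x_comm_of_not_comb _
      (fun e => hb.2 (P.neg_neg b ▸ h.neg (e ▸ ha))) (fun j hj =>
        (h.compl.ideal (h.sub ha) hb hj.symm).2 (h.ideal hb.1 ha hj)) u t) hg')).symm) hg)

theorem nz_of {f : (ι → ℤ) →ₗ[ℤ] ℤ} {T : Set R} (hT : P.Cl f T) (h1 : T ⊆ C.Ψ) (h2 : ∀ r ∈ T, C.π r ∈ T)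
    (h3 : X.US (T ∩ Θ) ⊓ Fix' C.ν ≤ C.Lb Θ) :
    X.US T ⊓ Fix' C.ν ≤ Subgroup.normalizer (C.Lb Θ : Set G) := fun u hu => by
  obtain ⟨a, ha, b, hb, rfl⟩ := X.exists_mul_of_mem_US hT (S₁ := T ∩ Θ) (S₂ := T ∩ (C.Ψ \ Θ))
    (Set.ext fun r => ⟨fun hr => (em (r ∈ Θ)).imp (⟨hr, ·⟩) (⟨hr, h1 hr, ·⟩), fun hr => hr.elim (·.1) (·.1)⟩) hu.1
  have a1 := mem_US_inter C.A.faith.sep hT (h.cl hT) (h.compl.cl hT) Set.inter_subset_left Set.inter_subset_left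
    (mul_mem (inv_mem ha) (C.mon.US (fun r hr => And.intro (h2 r hr.1) (h.map r hr.2)) ha))
    (by rw [eq_mul_inv_of_mul_eq ((map_mul C.ν a b).symm.trans hu.2), MonoidHom.id_apply, mul_assoc, inv_mul_cancel_left]
        exact mul_mem hb (inv_mem (C.mon.US (fun r hr => And.intro (h2 r hr.1) (h.compl.map r hr.2)) hb)))
  rw [show T ∩ Θ ∩ (T ∩ (C.Ψ \ Θ)) = ∅ from Set.eq_empty_of_forall_notMem fun r hr => hr.2.2.2 hr.1.2, X.US_empty,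
    Subgroup.mem_bot, inv_mul_eq_one] at a1
  refine mul_mem (Subgroup.le_normalizer (h3 ⟨ha, a1.symm⟩)) (Subgroup.centralizer_le_normalizer _ fun g hg =>
    h.comm (sup_le (inf_le_left.trans (X.US_mono Set.inter_subset_right))
      (inf_le_left.trans (X.US_mono Set.inter_subset_right)) hg) (X.US_mono Set.inter_subset_right hb))

theorem L_le : C.L ≤ Subgroup.normalizer (C.Lb Θ : Set G) :=
  sup_le (h.nz_of C.cl Set.inter_subset_right C.π_Pp le_sup_left) (h.nz_of C.clm Set.inter_subset_right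
    (fun r hr => ⟨mt (C.π_pos hr.2).1 hr.1, C.π_mem hr.2⟩) le_sup_right)

end Bk

variable [Fintype R]

theorem exists_mu {Q : Subgroup G} (h1 : C.U ≤ Q) (h2 : Q ≤ C.Fx) : ∃ μ : (ι → ℤ) →ₗ[ℤ] ℤ,
    (∀ n ∈ Q, ∀ w, X.Rep n w → ∀ r, μ (P.cf (w r)) = μ (P.cf r)) ∧ (∀ r, μ (P.cf (C.π r)) = μ (P.cf r)) ∧
      (∀ r ∈ C.Pp, 0 ≤ μ (P.cf r)) ∧ ∃ n ∈ Q, ∃ w, X.Rep n w ∧ ∀ r ∈ C.Pp, μ (P.cf r) = 0 → ¬ P.Pos (w r) := by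
  classical
  let W : Subgroup (Equiv.Perm R) :=
    { carrier := {w | ∃ n ∈ Q, X.Rep n w}
      one_mem' := ⟨1, one_mem _, X.rep_one⟩
      mul_mem' := fun ⟨a, ha, h⟩ ⟨b, hb, h'⟩ => ⟨_, mul_mem ha hb, h.mul h'⟩
      inv_mem' := fun ⟨a, ha, h⟩ => ⟨_, inv_mem ha, h.inv⟩ }
  have := Fintype.ofFinite W
  choose N hN using fun w : W => P.exists_lin w.2.choose_spec.2.mem_W
  obtain ⟨μ, a1⟩ : ∃ μ : (ι → ℤ) →ₗ[ℤ] ℤ, ∀ r, μ (P.cf r) = ∑ w : W, C.F (P.cf (w.1 r)) :=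
    ⟨∑ w, C.F ∘ₗ N w, fun r => by simp only [LinearMap.sum_apply, LinearMap.comp_apply, hN]⟩
  have a2 : ∀ w ∈ W, ∀ r, μ (P.cf (w r)) = μ (P.cf r) := fun w hw r => by
    rw [a1, a1, ← Equiv.sum_comp (Equiv.mulRight (⟨w, hw⟩ : W)) fun v : W => C.F (P.cf (v.1 r))]; rfl
  have a3 : ∀ r, μ (P.cf (C.π r)) = μ (P.cf r) := fun r => by
    rw [a1, a1]
    exact Finset.sum_congr rfl fun ⟨w, n, b1, b2⟩ _ => by rw [C.w_comm b2 (h2 b1), C.inv]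
  have a5 : ∀ r ∈ C.Pp, (∀ w ∈ W, P.Pos (w r)) → 0 < μ (P.cf r) := fun r hr h => a1 r ▸
    Finset.sum_pos (fun ⟨w, n, b1, b2⟩ _ => C.pos _ (C.w_mem b2 (h2 b1) hr.2) (h w ⟨n, b1, b2⟩)) ⟨1, Finset.mem_univ _⟩
  refine ⟨μ, fun n b1 w b2 => a2 w ⟨n, b1, b2⟩, a3, fun r hr => by_contra fun b4 => b4 (a5 r hr ?_).le, ?_⟩
  · rintro w ⟨n, b1, b2⟩
    by_contra b3
    obtain ⟨-, s, hs, m, -, v, c2, -, c3, -, c4⟩ := C.so (T := {s | s ∈ C.Pp ∧ ¬ P.Pos (w s) ∧ μ (P.cf s) < 0})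
      (fun _ h => h.1) (fun a ha b hb j hj => ⟨C.cl.cl a ha.1 b hb.1 j hj, (hj.map b2.mem_W).not_pos ha.2.1 hb.2.1, by
        obtain ⟨c, d, hc, hd, e⟩ := hj.lin μ
        exact e ▸ add_neg (mul_neg_of_pos_of_neg hc ha.2.2) (mul_neg_of_pos_of_neg hd hb.2.2)⟩)
      (fun a ha => ⟨C.π_Pp a ha.1, mt (C.w_pos b2 (h2 b1) ha.1.2).1 ha.2.1, (a3 a).symm ▸ ha.2.2⟩)
      ⟨r, hr, b3, not_le.1 b4⟩
    have := a2 v ⟨m, c4 Q h1 n ⟨b1, h2 b1⟩ w b2 fun s hs => hs.2.1, c2⟩ s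
    have := hs.2.2
    rw [c3, P.cf_neg, map_neg] at *
    omega
  obtain ⟨w, ⟨n, b1, b2⟩, b3⟩ := exists_max_Fm (P := P) (negP P) (S := {w | ∃ n ∈ Q, X.Rep n w})
    ⟨1, 1, one_mem _, X.rep_one⟩
  refine ⟨n, b1, w, b2, fun r hr e h => ?_⟩
  obtain ⟨w', ⟨n', d1, d2⟩, d3⟩ : ∃ w' ∈ W, ¬ P.Pos (w' r) := by
    by_contra! h
    exact (a5 r hr h).ne' e
  obtain ⟨-, s, -, m, -, v, c2, -, -, c3, c4⟩ := C.so (T := {s | s ∈ C.Pp ∧ P.Pos (w s) ∧ ¬ P.Pos (w' s)})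
    (fun _ h => h.1) (fun a ha b hb j hj => ⟨C.cl.cl a ha.1 b hb.1 j hj, (hj.map b2.mem_W).pos ha.2.1 hb.2.1,
      (hj.map d2.mem_W).not_pos ha.2.2 hb.2.2⟩)
    (fun a ha => ⟨C.π_Pp a ha.1, (C.w_pos b2 (h2 b1) ha.1.2).2 ha.2.1, mt (C.w_pos d2 (h2 d1) ha.1.2).1 ha.2.2⟩)
    ⟨r, hr, h, d3⟩
  have := b3 (w * v) ⟨_, mul_mem b1 (c4 Q h1 n' ⟨d1, h2 d1⟩ w' d2 fun s hs => hs.2.2), b2.mul c2⟩
  exact absurd (c3 _ (linP_neg.mul (linP_W b2.mem_W)) fun s hs => P.not_pos_neg_iff.2 hs.2.1)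
    (not_lt.2 (by rwa [mul_assoc]))

/-- the block of a subgroup normalised by `U` -/
theorem exists_bk {M : Subgroup G} (h1 : M ≤ C.Fx) (h2 : ∀ u ∈ C.U, Nz u M M)
    (h3 : ∀ K ≤ C.U, (∀ g ∈ M, Nz g K K) → ∀ g ∈ K, g ∈ M → g = 1) : ∃ Θ, C.Bk Θ ∧
      (∀ g ∈ M, ∀ u ∈ C.Ub (C.Ψ \ Θ), g * u = u * g) ∧ C.Lb Θ ≤ M ⊔ C.U ∧
        ∀ T ⊆ Θ, C.Bk T → (∀ g ∈ M, ∀ u ∈ C.Ub T, g * u = u * g) → T = ∅ := by
  have h4 : M ⊔ C.U ≤ C.Fx := sup_le h1 C.U_le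
  obtain ⟨μ, a2, a3, a6, n, n1, w, n2, n3⟩ := C.exists_mu le_sup_right h4
  have a7 : {s | s ∈ C.Ψ ∧ 0 < μ (P.cf s)} ⊆ C.Pp := fun s hs => ⟨by_contra fun h => by
    have := a6 _ ⟨P.pos_neg_iff.2 h, C.neg_mem hs.1⟩
    have := hs.2
    rw [P.cf_neg, map_neg] at *
    omega, hs.1⟩
  have a8 : ∀ a ∈ C.Pp, ∀ b ∈ {s | s ∈ C.Ψ ∧ 0 < μ (P.cf s)}, ∀ j, P.Comb a b j →
      j ∈ {s | s ∈ C.Ψ ∧ 0 < μ (P.cf s)} := fun a ha b hb j hj => ⟨C.comb ha.2 hb.1 hj, by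
    obtain ⟨c, d, hc, hd, e⟩ := hj.lin μ
    exact e ▸ add_pos_of_nonneg_of_pos (mul_nonneg hc.le (a6 a ha)) (mul_pos hd hb.2)⟩
  have a0 : ∀ n ∈ M ⊔ C.U, ∀ w, X.Rep n w → ∀ s ∈ {s | s ∈ C.Ψ ∧ 0 < μ (P.cf s)}, w s ∈ {s | s ∈ C.Ψ ∧ 0 < μ (P.cf s)} :=
    fun n b1 w b2 s hs => ⟨C.w_mem b2 (h4 b1) hs.1, (a2 n b1 w b2 s).symm ▸ hs.2⟩
  have a1 : C.Pp ∩ (C.Ψ \ {s | s ∈ C.Ψ ∧ μ (P.cf s) = 0}) = {s | s ∈ C.Ψ ∧ 0 < μ (P.cf s)} := Set.ext fun s =>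
    ⟨fun hs => ⟨hs.2.1, (a6 s hs.1).lt_of_ne' fun e => hs.2.2 ⟨hs.2.1, e⟩⟩, fun hs => ⟨a7 hs, hs.1, fun e => hs.2.ne' e.2⟩⟩
  have a4 : ∀ s ∈ {s | s ∈ C.Ψ ∧ 0 < μ (P.cf s)}, C.π s ∈ {s | s ∈ C.Ψ ∧ 0 < μ (P.cf s)} :=
    fun a ha => ⟨C.π_mem ha.1, (a3 a).symm ▸ ha.2⟩
  have a5 : ∀ s, s ∈ {s | s ∈ C.Ψ ∧ 0 < μ (P.cf s)} ↔ s ∈ C.Ψ ∧ 0 < μ (P.cf s) := fun _ => Iff.rfl
  generalize {s | s ∈ C.Ψ ∧ 0 < μ (P.cf s)} = T at *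
  have hT : P.Cl C.F T := ⟨fun a ha => a8 a (a7 ha), fun a ha => C.cl.pos a (a7 ha)⟩
  have a9 : ∀ u ∈ C.U, Nz u (X.US T ⊓ Fix' C.ν) (X.US T ⊓ Fix' C.ν) := fun u hu x hx =>
    ⟨X.US_conj_mem (fun a ha b hb => ⟨P.ne_neg_of_pos ha.1 (a7 hb).1, a8 a ha b hb⟩) hu.1 hx.1,
      (Fix' C.ν).mul_mem ((Fix' C.ν).mul_mem hu.2 hx.2) ((Fix' C.ν).inv_mem hu.2)⟩
  have b0 : X.US T ⊓ Fix' C.ν ≤ C.U := inf_le_inf_right _ (X.US_mono a7)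
  have b1 : ∀ g ∈ M, Nz g (X.US T ⊓ Fix' C.ν) (X.US T ⊓ Fix' C.ν) := fun g hg => by
    obtain ⟨u, hu, n, w, b1, b2, u', hu', -, rfl⟩ := C.bruhat (h1 hg)
    have b3 : n ∈ M ⊔ C.U := by
      simpa [mul_assoc] using mul_mem (mul_mem (inv_mem (Subgroup.mem_sup_right hu)) (Subgroup.mem_sup_left hg))
        (inv_mem (Subgroup.mem_sup_right hu'))
    exact ((a9 u hu).mul fun x hx => C.conj_mem b1 b2 (a0 n b3 w b1) hx).mul (a9 u' hu')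
  have b2 : ∀ g ∈ M, ∀ u ∈ X.US T ⊓ Fix' C.ν, g * u = u * g := fun g hg u hu => by
    have := h3 _ b0 b1 _ (mul_mem (b1 g hg u hu) (inv_mem hu))
      (by simpa [mul_assoc] using mul_mem hg (h2 u (b0 hu) _ (inv_mem hg)))
    rwa [mul_inv_eq_one, mul_inv_eq_iff_eq_mul] at this
  have b3 : ∀ n ∈ M ⊔ C.U, ∀ w, X.Rep n w → ∀ s ∈ T, C.F (P.cf s) ≤ C.F (P.cf (w s)) := fun n c1 w c2 s hs => by
    by_contra! c3
    obtain ⟨c, c4, z, z1, z2, z3⟩ := exists_lead C.A C.mon C.f_ne hT a4 C.inv hs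
    obtain ⟨g, hg, u, hu, rfl⟩ := (mem_sup_iff_of_nz h2).1 c1
    have d1 : g * u * z * (g * u)⁻¹ ∈ X.US (P.lev C.F C.Pp (C.F (P.cf s))) := by
      rw [← conj_mul_conj_aux, b2 g hg _ (a9 u hu z ⟨X.lev_le _ z1, z2⟩), mul_inv_cancel_right]
      exact X.lev_conj C.cl _ hu.1 (X.US_mono (fun a ha => And.intro (a7 ha.1) ha.2) z1)
    have d2 := mem_US_inter C.A.faith.sep C.cl (C.cl.lev _) (T := {a | w⁻¹ a ∈ P.lev C.F T (C.F (P.cf s))})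
      ⟨fun a ha b hb j hj => (hT.lev _).cl _ ha _ hb _ (hj.map c2.inv.mem_W), fun a ha => by
        simpa using hT.pos _ (a0 _ c1 w c2 _ ha.1)⟩ (fun a ha => ha.1) (fun a ha => by simpa using a7 (a0 _ c1 w c2 _ ha.1))
      d1 (c2.acts.conj_mem (fun a ha => by simpa using ha) z1)
    have d3 := c2.inv.acts.conj_mem (T := P.lev C.F T (C.F (P.cf s)) \ {s}) (fun a ha => And.intro ha.2 fun e => by
      rw [show w s = a by rw [← Set.mem_singleton_iff.1 e]; simp] at c3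
      exact c3.not_ge ha.1.2) d2
    refine c4 (eq_zero_of_mem_diff C.A.faith.sep (hT.pos s hs) (S := P.lev C.F T (C.F (P.cf s))) (fun a ha => ha.2) ?_)
    simpa [mul_assoc] using mul_mem d3 (inv_mem z3)
  have b4 : ∀ s ∈ T, C.F (P.cf (w s)) = C.F (P.cf s) := fun s hs =>
    le_antisymm (by simpa using b3 _ (inv_mem n1) _ n2.inv _ (a0 n n1 w n2 s hs)) (b3 n n1 w n2 s hs)
  have b5 : ∀ r ∈ C.Pp, μ (P.cf r) = 0 → ∀ s ∈ T, C.S.p r s = 0 := fun r hr e s hs => by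
    obtain ⟨j, hj⟩ := exists_refl C.S r s
    have c1 := b4 j ((a5 j).2 ⟨C.lat s (a7 hs).2 r hr.2 j _ _ hj, by
      rw [hj, map_add, map_zsmul, map_zsmul, e, smul_zero, add_zero, one_smul]; exact ((a5 s).1 hs).2⟩)
    have c2 := C.cl.pos r hr
    have c3 := mt (C.pos_iff (C.w_mem n2 (h4 n1) hr.2)).2 (n3 r hr e)
    rw [(linP_W n2.mem_W).cf_add hj, hj] at c1
    simp only [map_add, map_zsmul, smul_eq_mul, b4 s hs] at c1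
    exact (mul_eq_zero.1 (show C.S.p r s * (C.F (P.cf r) - C.F (P.cf (w r))) = 0 by linarith)).resolve_right (by omega)
  have b6 : ∀ r ∈ C.Ψ, μ (P.cf r) = 0 → ∀ s ∈ T, C.S.p r s = 0 := fun r hr e s hs => by
    by_cases h : P.Pos r
    · exact b5 r ⟨h, hr⟩ e s hs
    · simpa [C.S.neg_left] using b5 _ ⟨P.pos_neg_iff.2 h, C.neg_mem hr⟩ (by simp [P.cf_neg, e]) s hs
  refine ⟨{s | s ∈ C.Ψ ∧ μ (P.cf s) = 0}, ⟨fun _ h => h.1, fun r hr => ⟨C.π_mem hr.1, (a3 r).trans hr.2⟩,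
    fun r hr s hs e => ⟨hs, by_contra fun e' => e ?_⟩⟩, by rwa [Ub, a1], sup_le ((C.Ub_le _).trans le_sup_right)
      fun v hv => ?_, fun T' c1 c2 c3 => Set.eq_empty_of_forall_notMem fun r hr => ?_⟩
  · rcases lt_or_gt_of_ne e' with e' | e'
    · simpa [C.S.neg_right] using b6 r hr.1 hr.2 _ ((a5 _).2 ⟨C.neg_mem hs, by simpa [P.cf_neg] using e'⟩)
    · exact b6 r hr.1 hr.2 s ((a5 s).2 ⟨hs, e'⟩)
  · simpa [mul_assoc] using mul_mem (mul_mem (inv_mem n1) (Subgroup.mem_sup_right (C.conj_mem n2 (h4 n1) (T := C.Pp)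
      (fun r hr => ⟨P.not_pos_neg_iff.1 (P.W_neg n2.mem_W r ▸ n3 _ ⟨P.pos_neg_iff.2 hr.1.1, C.neg_mem hr.1.2⟩
        (by simp [P.cf_neg, hr.2.2])), C.w_mem n2 (h4 n1) hr.1.2⟩) hv))) n1
  obtain ⟨⟨z, z1, z2⟩, -⟩ := C.so (T := C.Pp ∩ T') Set.inter_subset_left (c2.cl C.cl).cl
    (fun a ha => ⟨C.π_Pp a ha.1, c2.map a ha.2⟩) (by
      by_cases h : P.Pos r
      · exact ⟨r, ⟨h, c2.sub hr⟩, hr⟩
      · exact ⟨_, ⟨P.pos_neg_iff.2 h, C.neg_mem (c2.sub hr)⟩, c2.neg hr⟩)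
  obtain ⟨g, hg, u, hu, rfl⟩ := (mem_sup_iff_of_nz h2).1 n1
  have d1 := c2.nz hu z z1
  have d2 : g * u * z * (g * u)⁻¹ ∈ X.V := n2.acts.conj_mem (fun a ha => n3 a ha.1 (c1 ha.2).2) z1.1
  rw [← conj_mul_conj_aux, c3 g hg _ d1, mul_inv_cancel_right] at d2
  exact z2 (by simpa using C.A.faith.eq_one_of_mem_B_V (X.U_le_B (C.U_le_U (C.Ub_le _ d1))) d2)

end Cen

end Cfsg.Agent.IVL
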