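import Cfsg.Agent.IVL.Blk
import Cfsg.Agent.IVL.Cmp

/-! Project IVL: the number of components of the centraliser of an involution. -/

set_option autoImplicit false

namespace Cfsg.Agent.IVL

open Cfsg.Agent.H38 Cfsg.Agent.H39 Cfsg.Agent.H64 Cfsg.Agent.H37 Cfsg.Agent.H68

variable {ι R : Type} [Fintype ι] [DecidableEq ι] {P : RS ι R} {k : Type*} [Field k] {G : Type*} [Group G]
  {X : RG P k G} {p : ℕ}

theorem dat_nc [Finite R] {A : Alg X p} (D : INVK.Ex.Dat A) (S : Pairing P) [Finite D.C]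
    (h : TwoBlk S D.Ψ D.π) : {K : Subgroup D.C | IsComponent K}.ncard ≤ 2 := by
  have := Fintype.ofFinite R
  have := A.char
  obtain ⟨F, a1, a2, -⟩ := INVK.Ex.exists_inv2 D.mon.lin D.cl D.πp
  obtain ⟨y, hy⟩ := D.par
  let C : Cen X p := ⟨A, S, D.t, D.ν, D.π, D.f, F, y, D.odd, D.tH, D.ne, D.mon, D.fix,
    fun r => (hy r).trans even_iff_two_dvd.symm, fun r hr h => a1.pos r ⟨h, hr⟩, a2⟩
  obtain ⟨b, b1, b2⟩ := C.exists_blk (Y := D.C) (sup_le
    (fun u hu => D.mem_C Set.inter_subset_right D.cl hu.1 hu.2)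
    fun u hu => D.mem_C (F := -F) Set.inter_subset_right C.clm hu.1 hu.2)
    fun g hg => ⟨Subgroup.mem_centralizer_singleton_iff.2 (D.le g hg).1.symm, (D.le g hg).2⟩
  have b3 : ∀ K, IsComponent K → Blk S D.Ψ D.π (b K) := fun K hK =>
    have c := b1 K (H44.comp_top_iff.2 hK)
    ⟨c.2, c.1.sub, c.1.map, c.1.conn⟩
  have b4 := fun K K' hK hK' => b2 K K' (H44.comp_top_iff.2 hK) (H44.comp_top_iff.2 hK')
  by_contra! c
  obtain ⟨K, hK, L, hL, M, hM, c1, c2, c3⟩ := (Set.two_lt_ncard (Set.toFinite _)).1 c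
  exact h _ _ _ (b3 K hK) (b3 L hL) (b3 M hM) (b4 K L hK hL c1) (b4 K M hK hM c2) (b4 L M hL hM c3)

end Cfsg.Agent.IVL
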