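import Cfsg.Agent.IVL.Tri

/-! Project IVL: normal subgroups of `p`-power index in the group generated by the unipotent elements. -/

set_option autoImplicit false

namespace Cfsg.Agent.IVL

open Cfsg.Agent.H38 Cfsg.Agent.H39 Cfsg.Agent.H64 Cfsg.Agent.H37 Cfsg.Agent.H68 INVK.Ex

variable {ι R : Type} [Fintype ι] [DecidableEq ι] {P : RS ι R} {k : Type*} [Field k] {G : Type*} [Group G]
  {X : RG P k G} {p : ℕ}

namespace Cen

variable [Fintype R] (C : Cen X p)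

theorem U_le_of {D : Subgroup G} (hn : ∀ g ∈ C.L, ∀ d ∈ D, g * d * g⁻¹ ∈ D) (hp : ∀ g ∈ C.L, ∃ i, g ^ p ^ i ∈ D)
    (hz : ∀ z ∈ C.U, (∀ u ∈ C.U, u * z = z * u) → z ∈ D) : C.U ≤ D := by
  suffices h : ∀ n, ∀ T : Set R, T.ncard = n → T ⊆ C.Pp → (∀ r ∈ T, C.π r ∈ T) →
      (∀ a ∈ C.Pp, ∀ s ∈ T, C.F (P.cf s) < C.F (P.cf a) → a ∈ T) → X.US T ⊓ Fix' C.ν ≤ D from
    h _ _ rfl subset_rfl C.π_Pp fun a ha _ _ _ => ha
  intro n
  induction n using Nat.strong_induction_on with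
  | _ n ih =>
  rintro T rfl h1 h2 h3 y ⟨y1, y2⟩
  obtain rfl | h4 := T.eq_empty_or_nonempty
  · exact bot_le (a := D) (X.US_empty ▸ y1)
  obtain ⟨r, hr, hm⟩ := Set.exists_min_image T (fun r => C.F (P.cf r)) (Set.toFinite T) h4
  obtain ⟨m, m1, m2, m3⟩ := exists_period C.π r
  have hT : P.Cl C.F T := ⟨fun a ha b hb j hj => h3 j (C.cl.cl a (h1 ha) b (h1 hb) j hj) a ha (by
    have := C.cl.lt_of_comb (h1 ha) (h1 hb) hj
    have := C.cl.pos b (h1 hb)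
    omega), fun a ha => C.cl.pos a (h1 ha)⟩
  have a1 : X.US (T \ Set.range fun j : ℕ => (C.π ^ j) r) ⊓ Fix' C.ν ≤ D :=
    ih _ (Set.ncard_lt_ncard ⟨Set.diff_subset, fun h => (h hr).2 (Set.mem_range_self 0)⟩) _ rfl (fun a ha => h1 ha.1)
      (fun a ha => ⟨h2 a ha.1, fun ⟨j, e⟩ => ha.2 (Exists.intro (j + (m - 1)) (C.π.injective (by
        rw [← e, ← Equiv.Perm.mul_apply, ← pow_succ', add_assoc, Nat.sub_add_cancel m1, pow_add,
          Equiv.Perm.mul_apply, m2])))⟩) fun a ha s hs e => ⟨h3 a ha s hs.1 e, fun ⟨j, e'⟩ => by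
        have := hm s hs.1
        rw [← e', C.F_pow] at e
        omega⟩
  have a2 : ∀ t, ∀ g ∈ X.US (T \ {r}), X.x r t * g * (X.x r t)⁻¹ ∈ X.US (T \ {r}) := fun t g =>
    X.x_conj_mem (fun s hs => ⟨hT.ne_neg hr hs.1, fun j hj => And.intro (hT.cl r hr s hs.1 j hj) fun e => by
      have := hT.lt_of_comb hr hs.1 hj
      have := hT.pos s hs.1
      rw [Set.mem_singleton_iff.1 e] at *
      omega⟩) t
  have hν := pow_mul C.A.Fr C.f m ▸ C.mon.pow m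
  have a3 : ∀ c, (C.ν ^ m) (X.x r c) = X.x r c →
      ∃ z ∈ D, z ∈ X.US T ∧ C.ν z = z ∧ (X.x r c)⁻¹ * z ∈ X.US (T \ {r}) := fun c hc => by
    rcases C.tri (h1 hr) with ⟨g, g1, g2, g3⟩ | ⟨b1, b2⟩
    · obtain ⟨i, hi⟩ := hp g g1
      replace g3 := mt (psi_pow C.A g2 (i := i)) g3
      replace g1 := pow_mem g1 (p ^ i)
      replace g2 := pow_mem g2 (p ^ i)
      generalize g ^ p ^ i = g at *
      obtain ⟨χ, b1⟩ := exists_ch X g2
      replace b1 := b1 r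
      generalize (ch χ (P.cf r) : k) = χ at b1
      have b2 : χ - 1 ≠ 0 := sub_ne_zero.2 (mt (mem_psi C.A b1).2 g3)
      obtain rfl | c0 := eq_or_ne c 0
      · exact ⟨1, one_mem _, one_mem _, map_one _, by simp [X.x_zero]⟩
      obtain ⟨d, hd, e⟩ := hν.ex r
      have b3 : (C.A.Fr ^ (C.f * m)) χ = χ := by
        have := congrArg (C.ν ^ m) (b1 1)
        rw [map_mul, map_mul, map_inv, pow_fix (C.L_le g1).2, e, e, m2, b1, mul_one, map_one, mul_one, mul_comm] at this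
        exact (mul_left_cancel₀ hd (C.A.faith.x_inj r this)).symm
      obtain ⟨z, z1, z2, z3, -⟩ := exists_fix C.A C.mon C.f_ne C.inv hT h2 hr m1 m3
        (hν.fix_x C.A.faith c0 hc (a := (χ - 1)⁻¹) (by rw [map_inv₀, map_sub, map_one, b3]))
      replace z3 := X.US_mono (T := T \ {r}) (fun a ha => ⟨ha.1.1, ha.2⟩) z3
      refine ⟨g * (z * g⁻¹ * z⁻¹), mul_mem hi (hn z (Subgroup.mem_sup_left ⟨X.US_mono h1 z1, z2⟩) _ (inv_mem hi)),
        by simpa [mul_assoc] using mul_mem (X.H_conj_mem_US g2 z1) (inv_mem z1),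
        by simp only [map_mul, map_inv, z2, show C.ν g = g from (C.L_le g1).2], ?_⟩
      have b4 := a2 ((χ - 1)⁻¹ * c) _ (mul_mem (X.H_conj_mem_US g2 z3) (inv_mem z3))
      have b5 : X.x r c * X.x r ((χ - 1)⁻¹ * c) = g * X.x r ((χ - 1)⁻¹ * c) * g⁻¹ := by
        rw [b1, ← X.add]; congr 1; field_simp; ring
      rw [eq_mul_inv_of_mul_eq b5]
      convert b4 using 1
      group
    obtain rfl : m = 1 := by_contra fun e => m3 1 one_pos (by omega) b1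
    have b3 : C.ν (X.x r c) = X.x r c := hc
    refine ⟨X.x r c, ?_, X.x_mem hr c, b3, by simp⟩
    rcases b2 with ⟨n, n1, w, n2, n3, n4⟩ | b2
    · simpa [mul_assoc] using hn _ (inv_mem n1) _ (a1 (C.conj_mem n2 (C.L_le n1) (S := {r}) (by
        rintro _ rfl
        exact ⟨h3 _ n3 _ hr n4, fun ⟨j, e⟩ => n4.ne (by rw [← e, C.F_pow])⟩) ⟨X.x_mem (Set.mem_singleton r) c, b3⟩))
    · exact hz _ ⟨X.x_mem (h1 hr) c, b3⟩ fun u hu => Subgroup.mem_centralizer_singleton_iff.1 (US_le_centralizer _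
        (fun s hs t => (x_comm_of_not_comb _ (C.cl.ne_neg (h1 hr) hs) (b2 s hs) c t).symm) hu.1)
  obtain ⟨c, y', y3, rfl⟩ := exists_x_mul X.toRG0 hT hr y1
  have a4 : ∀ (j : ℕ), ∀ g ∈ X.US (T \ {r}), (C.ν ^ j) g ∈ X.US (T \ {(C.π ^ j) r}) := fun j g => (C.mon.pow j).US
    fun a ha => And.intro (pow_mem_of h2 j ha.1) fun e => ha.2 ((C.π ^ j).injective e)
  obtain ⟨z, z1, z2, z3, z4⟩ := a3 c (by
    obtain ⟨c', -, e⟩ := (C.mon.pow m).ex' r c
    have b1 := pow_fix (show C.ν _ = _ from y2) m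
    have b2 := mul_mem y3 (inv_mem (m2 ▸ a4 m _ y3))
    rw [map_mul, e, m2] at b1
    rw [eq_inv_mul_of_mul_eq b1, mul_inv_rev, mul_inv_rev, mul_assoc, mul_inv_cancel_left, inv_inv, ← X.x_neg, ← X.add] at b2
    rw [e, m2, ← neg_add_eq_zero.1 (eq_zero_of_mem_diff C.A.faith.sep (hT.pos r hr) hm b2)])
  have a5 : C.ν (z⁻¹ * (X.x r c * y')) = z⁻¹ * (X.x r c * y') := by
    rw [map_mul, map_inv, z3, show C.ν _ = X.x r c * y' from y2]
  have a6 : z⁻¹ * (X.x r c * y') ∈ X.US (T \ {r}) := by simpa [mul_assoc] using mul_mem (inv_mem z4) y3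
  simpa using mul_mem z1 (a1 ⟨mem_US_diff C.A.faith hT (by
    rintro _ ⟨j, rfl⟩
    exact ⟨pow_mem_of h2 j hr, fun b hb => (C.F_pow j r).trans_le (hm b hb)⟩) (mul_mem (inv_mem z2) y1) (by
      rintro _ ⟨j, rfl⟩
      exact pow_fix a5 j ▸ a4 j _ a6), a5⟩)

end Cen

end Cfsg.Agent.IVL
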