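import Cfsg.Agent.IVL.Blk

/-! Project IVL: torus elements in the group generated by the unipotent elements. -/

set_option autoImplicit false

namespace Cfsg.Agent.IVL

open Cfsg.Agent.H38 Cfsg.Agent.H39 Cfsg.Agent.H64 Cfsg.Agent.H37 Cfsg.Agent.H68 INVK.Ex

variable {ι R : Type} [Fintype ι] [DecidableEq ι] {P : RS ι R} {k : Type*} [Field k] {G : Type*} [Group G]
  {X : RG P k G} {p : ℕ}

/-- lengths of roots -/
theorem exists_len [Fintype R] (S : Pairing P) : ∃ N : R → ℤ, (∀ a, 0 < N a) ∧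
    (∀ a b, S.p a b * N a = S.p b a * N b) ∧
      ∀ ρ : Equiv.Perm R, (∀ q s, S.p (ρ q) (ρ s) = S.p q s) → ∀ a, N (ρ a) = N a := by
  have h : ∀ a b, S.p a b * ∑ s, S.p s a * S.p s a = 2 * ∑ s, S.p s a * S.p s b := fun a b => by
    obtain ⟨w, hw⟩ := exists_rf' P a
    have h1 : ∑ s, S.p s a * S.p s b = ∑ s, (S.p a b * (S.p s a * S.p s a) - S.p s a * S.p s b) := by
      rw [← Equiv.sum_comp w⁻¹]
      refine Finset.sum_congr rfl fun s _ => ?_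
      rw [← p_W S hw.mem (w⁻¹ s) a, ← p_W S hw.mem (w⁻¹ s) b, show w (w⁻¹ s) = s by simp, p_lin S (rf_cf S hw b),
        hw.self, S.neg_right]
      ring
    rw [Finset.sum_sub_distrib, ← Finset.mul_sum] at h1
    omega
  refine ⟨fun a => ∑ s, S.p s a * S.p s a, fun a => Finset.sum_pos' (fun s _ => mul_self_nonneg _)
    ⟨a, Finset.mem_univ _, by rw [S.self]; omega⟩, fun a b => ?_, fun ρ e a => ?_⟩
  · rw [h, h]; simp only [mul_comm]
  · exact (Equiv.sum_comp ρ _).symm.trans (by simp only [e])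

theorem psi_pow [Finite R] (A : Alg X p) {h : G} (hh : h ∈ X.H) {i : ℕ} {r : R} (e : r ∈ Psi X {h ^ p ^ i}) :
    r ∈ Psi X {h} := by
  have := A.char
  have := Fact.mk A.prime
  obtain ⟨c, hc⟩ := exists_ch X hh
  have h1 : ∀ u (m : ℕ), h ^ m * X.x r u * (h ^ m)⁻¹ = X.x r ((ch c (P.cf r) : k) ^ m * u) := fun u m => by
    induction m with
    | zero => simp
    | succ m ih => rw [pow_succ', ← conj_mul_conj_aux, ih, hc, pow_succ', mul_assoc]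
  exact (mem_psi A (hc r)).2 ((iterateFrobenius k p i).injective
    (by simpa [iterateFrobenius_def] using (mem_psi A fun u => h1 u _).1 e))

namespace Cen

variable (C : Cen X p) {r s δ : R} {m : ℕ}

theorem lat : Lat P C.Ψ := Par.lat ⟨C.y, fun r => (C.par r).trans even_iff_two_dvd⟩

theorem F_ne (hr : r ∈ C.Ψ) : C.F (P.cf r) ≠ 0 := fun e => by
  have h1 := C.pos_iff hr
  have h2 := C.pos_iff (C.neg_mem hr)
  rw [P.pos_neg_iff, h1, P.cf_neg, map_neg, e] at h2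
  simp at h2

theorem F_pow (j : ℕ) (r : R) : C.F (P.cf ((C.π ^ j) r)) = C.F (P.cf r) :=
  pow_inv_of (F := fun r => C.F (P.cf r)) C.inv j r

theorem three_le : 3 ≤ p ^ C.f := by
  have := C.A.prime.two_le
  have := C.odd.not_two_dvd_nat
  exact le_trans (by omega) (Nat.le_self_pow C.f_ne p)

variable [Fintype R]

theorem no_sub (hr : r ∈ C.Ψ) (hs : s ∈ C.Ψ) (e : C.F (P.cf s) = C.F (P.cf r)) (c : R) :
    P.cf c ≠ P.cf r + P.cf (P.neg s) := fun hc =>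
  C.F_ne (C.lat r hr _ (C.neg_mem hs) c 1 1 (by simpa using hc)) (by rw [hc, P.cf_neg, map_add, map_neg, e]; simp)

theorem p_nonpos (hr : r ∈ C.Ψ) (hs : s ∈ C.Ψ) (e : C.F (P.cf s) = C.F (P.cf r)) (h : s ≠ r) : C.S.p r s ≤ 0 :=
  not_lt.1 fun h0 => (exists_sub h0 h).elim (C.no_sub hr hs e)

theorem so_of_zero (hr : r ∈ C.Ψ) (hs : s ∈ C.Ψ) (e : C.F (P.cf s) = C.F (P.cf r)) (h : C.S.p r s = 0) : SO P r s := by
  refine so_of h (fun c hc => ?_) (C.no_sub hr hs e)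
  obtain ⟨d, hd⟩ := exists_refl C.S s c
  refine C.no_sub hr hs e d ?_
  rw [hd, C.S.add hc, C.S.zero_comm h, C.S.self, hc, P.cf_neg]
  module

theorem p_pow (j : ℕ) (r s : R) : C.S.p ((C.π ^ j) r) ((C.π ^ j) s) = C.S.p r s := mon_p C.S C.A.faith (C.mon.pow j) r s

section
variable (hδ : δ ∈ C.Pp) (m1 : 0 < m) (m2 : (C.π ^ m) δ = δ)
  (m3 : ∀ j, 0 < j → j < m → C.S.p δ ((C.π ^ j) δ) = 0)
include hδ m3

theorem orb_comm (j : ℕ) (h1 : 0 < j) (h2 : j < m) (g : G) (hg : g ∈ X.US {δ, P.neg δ}) (g' : G)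
    (hg' : g' ∈ X.US {(C.π ^ j) δ, P.neg ((C.π ^ j) δ)}) : Commute g g' :=
  (C.so_of_zero hδ.2 (pow_mem_of (fun _ => C.π_mem) j hδ.2) (C.F_pow j δ) (m3 j h1 h2)).comm _ hg hg'

theorem orb_mul {g g' : G} (hg : g ∈ X.US {δ, P.neg δ}) (hg' : g' ∈ X.US {δ, P.neg δ}) :
    nm C.ν (g * g') m = nm C.ν g m * nm C.ν g' m := nm_mul fun i j h1 h2 => by
  obtain ⟨j, rfl⟩ := Nat.exists_eq_add_of_lt h1
  rw [add_assoc, pow_add]
  exact (C.orb_comm hδ m3 (j + 1) (by omega) (by omega) _ hg' _ ((C.mon.pow _).US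
    (by rintro _ (rfl | rfl) <;> simp [(C.mon.pow (j + 1)).lin.neg]) hg)).map _

include m1

theorem n_mem {a : k} (ha : a ≠ 0) (e : (C.ν ^ m) (X.x δ a) = X.x δ a) : nm C.ν (X.n δ a) m ∈ C.L := by
  obtain ⟨c1, c2, -⟩ := exists_orb C.A.faith C.mon m1 ha e (C.orb_comm hδ m3)
  have b1 : nm C.ν (X.x δ a) m ∈ C.L := Subgroup.mem_sup_left
    ⟨nm_mem fun j _ => (C.mon.pow j).US (fun _ => pow_mem_of C.π_Pp j) (X.x_mem hδ a), c1⟩
  rw [RG0.n, C.orb_mul hδ m3 (mul_mem (Setup.x_L δ _) (Setup.x_L' δ _)) (Setup.x_L δ _),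
    C.orb_mul hδ m3 (Setup.x_L δ _) (Setup.x_L' δ _)]
  exact mul_mem (mul_mem b1 (Subgroup.mem_sup_right ⟨nm_mem fun j _ => (C.mon.pow j).US
    (fun _ => pow_mem_of (S := C.Pm) (fun r hr => ⟨mt (C.π_pos hr.2).1 hr.1, C.π_mem hr.2⟩) j)
    (X.x_mem (And.intro (P.not_pos_neg_iff.2 hδ.1) (C.neg_mem hδ.2)) _), c2⟩)) b1

include m2

/-- the torus of a strongly orthogonal orbit -/
theorem torus (h : ∀ g ∈ C.L, g ∈ X.H → r ∈ Psi X {g}) (h0 : ∀ j < m, 0 ≤ C.S.p ((C.π ^ j) δ) r)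
    (h1 : 0 < C.S.p δ r) :
    (p ^ C.f) ^ m ≤ ∑ j ∈ Finset.range m, (p ^ C.f) ^ j * (C.S.p ((C.π ^ j) δ) r).toNat + 1 := by
  classical
  have hm := pow_mul C.A.Fr C.f m ▸ C.mon.pow m
  have h2 := mul_ne_zero C.f_ne m1.ne'
  obtain ⟨c, c1, c2⟩ := C.A.exists_fix_x hm h2 m2
  have a0 : ∀ s (a b : k), a ≠ 0 → b ≠ 0 → X.n s (a * b) * X.n s (-b) = X.h s a := fun s a b ha hb => by
    rw [X.n_mul_n, neg_neg, ← C.A.hmul _ _ _ ha hb, mul_inv_cancel_right]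
  have a1 : ∀ l : k, l ≠ 0 → ∀ i ≤ m, ∀ u, nm C.ν (X.h δ l) i * X.x r u * (nm C.ν (X.h δ l) i)⁻¹ =
      X.x r (l ^ (∑ j ∈ Finset.range i, (p ^ C.f) ^ j * (C.S.p ((C.π ^ j) δ) r).toNat) * u) := fun l hl i hi => by
    induction i with
    | zero => simp [nm_zero]
    | succ i ih =>
      intro u
      obtain ⟨b, hb, e⟩ := (C.mon.pow i).map_n δ
      have b1 : ((C.A.Fr ^ C.f) ^ i) l = l ^ (p ^ C.f) ^ i := by rw [← pow_mul, C.A.Fr_pow, pow_mul]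
      have b2 : (C.ν ^ i) (X.h δ l) = X.h ((C.π ^ i) δ) (l ^ (p ^ C.f) ^ i) := by
        rw [RG0.h, map_mul, e, e, map_neg, map_one, mul_neg, mul_one, mul_comm b, b1, a0 _ _ _ (pow_ne_zero _ hl) hb]
      rw [nm_succ, ← conj_mul_conj_aux, b2, h_act C.A C.S _ (pow_ne_zero _ hl), ih (by omega), Finset.sum_range_succ,
        pow_add, pow_mul, mul_assoc, ← zpow_natCast _ (Int.toNat _), Int.toNat_of_nonneg (h0 i hi)]
  generalize hE : ∑ j ∈ Finset.range m, (p ^ C.f) ^ j * (C.S.p ((C.π ^ j) δ) r).toNat = E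
  have a2 : 0 < E := hE ▸ Finset.sum_pos' (fun _ _ => Nat.zero_le _) ⟨0, Finset.mem_range.2 m1, by simpa using h1⟩
  rw [← pow_mul, ← C.A.card_fix h2]
  refine (Set.ncard_le_ncard (s := {t | (C.A.Fr ^ (C.f * m)) t = t})
    (t := insert 0 ((Polynomial.nthRoots E (1 : k)).toFinset : Set k)) fun l hl => ?_).trans
    ((Set.ncard_insert_le _ _).trans (Nat.succ_le_succ ((Set.ncard_coe_finset _).trans_le
      ((Multiset.toFinset_card_le _).trans (Polynomial.card_nthRoots _ _)))))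
  by_cases l1 : l = 0
  · exact .inl l1
  refine .inr (Multiset.mem_toFinset.2 ((Polynomial.mem_nthRoots a2).2 ((mem_psi C.A (hE ▸ a1 l l1 m le_rfl)).1
    (h _ ?_ (nm_mem fun j _ => (C.mon.pow j).map_H (X.h_mem_H δ l1))))))
  rw [← a0 δ l c l1 c1, C.orb_mul hδ m3 (Setup.n_L δ _) (Setup.n_L δ _)]
  exact mul_mem (C.n_mem hδ m1 m3 (mul_ne_zero l1 c1) (hm.fix_x C.A.faith c1 c2 hl))
    (C.n_mem hδ m1 m3 (neg_ne_zero.2 c1) (by rw [X.x_neg, map_inv, c2]))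

end

/-- the three ways of reaching a root subgroup -/
theorem tri (hr : r ∈ C.Pp) : (∃ g ∈ C.L, g ∈ X.H ∧ r ∉ Psi X {g}) ∨ C.π r = r ∧
    ((∃ n ∈ C.L, ∃ w, X.Rep n w ∧ w r ∈ C.Pp ∧ C.F (P.cf r) < C.F (P.cf (w r))) ∨
      ∀ s ∈ C.Pp, ∀ j, ¬ P.Comb r s j) := by
  refine or_iff_not_imp_left.2 fun h => ?_
  replace h : ∀ g ∈ C.L, g ∈ X.H → r ∈ Psi X {g} := fun g h1 h2 => by_contra fun h3 => h ⟨g, h1, h2, h3⟩
  obtain ⟨N, N1, N2, N3⟩ := exists_len C.S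
  have a0 : ∀ a ∈ C.Pp, ∀ b ∈ C.Pp, C.S.p a b < 0 → ∃ c ∈ C.Pp, N c = N b ∧ C.F (P.cf a) < C.F (P.cf c) ∧
      C.F (P.cf b) < C.F (P.cf c) ∧ ∀ q, C.S.p q c = C.S.p q b - C.S.p a b * C.S.p q a := fun a ha b hb e => by
    obtain ⟨w, hw⟩ := exists_rf' P a
    have b1 := C.cl.pos a ha
    have b2 := C.cl.pos b hb
    have b3 := congrArg C.F (rf_cf C.S hw b)
    rw [map_add, map_zsmul, map_zsmul, smul_eq_mul, smul_eq_mul] at b3
    exact ⟨w b, C.cl.cl b hb a ha _ ⟨1, _, one_pos, by omega, rf_cf C.S hw b⟩, N3 w (p_W C.S hw.mem) b, by nlinarith,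
      by nlinarith, fun q => by rw [p_lin C.S (rf_cf C.S hw b)]; ring⟩
  have a1 : ∀ δ ∈ C.Pp, N r ≤ N δ → 0 < C.S.p r δ → (∀ j ∈ C.Pp, N r ≤ N j → 0 < C.S.p r j →
      C.F (P.cf j) ≤ C.F (P.cf δ)) → ∃ m, 0 < m ∧ (C.π ^ m) δ = δ ∧
        (∀ j, 0 < j → j < m → C.S.p δ ((C.π ^ j) δ) = 0) ∧ (∀ j : ℕ, 0 ≤ C.S.p ((C.π ^ j) δ) r) ∧
        (p ^ C.f) ^ m ≤ ∑ j ∈ Finset.range m, (p ^ C.f) ^ j * (C.S.p ((C.π ^ j) δ) r).toNat + 1 :=
    fun δ hδ h1 h2 h3 => by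
      obtain ⟨m, m1, m2, m3⟩ := exists_period C.π δ
      have b1 := fun j => pow_mem_of C.π_Pp j hδ
      have b2 : ∀ j : ℕ, 0 ≤ C.S.p r ((C.π ^ j) δ) := fun j => not_lt.1 fun e => by
        obtain ⟨c, c1, c2, -, c3, c4⟩ := a0 r hr _ (b1 j) e
        exact (h3 c c1 (by rwa [c2, N3 _ (C.p_pow j)]) (by rw [c4, C.S.self]; omega)).not_gt (C.F_pow j δ ▸ c3)
      have b3 : ∀ j, 0 < j → j < m → C.S.p δ ((C.π ^ j) δ) = 0 := fun j j1 j2 =>
        (C.p_nonpos hδ.2 (b1 j).2 (C.F_pow j δ) (m3 j j1 j2)).antisymm (not_lt.1 fun e => by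
          obtain ⟨c, c1, c2, c3, -, c4⟩ := a0 δ hδ _ (b1 j) e
          exact (h3 c c1 (by rwa [c2, N3 _ (C.p_pow j)]) (by rw [c4]; nlinarith [b2 j])).not_gt c3)
      have b4 : ∀ j : ℕ, 0 ≤ C.S.p ((C.π ^ j) δ) r := fun j => not_lt.1 fun e => (C.S.neg_comm e).not_ge (b2 j)
      exact ⟨m, m1, m2, b3, b4, C.torus hδ m1 m2 b3 h (fun j _ => b4 j) (C.S.pos_comm _ _ h2)⟩
  have q3 := C.three_le
  have a2 : ∀ j ∈ C.Pp, N r ≤ N j → 0 < C.S.p r j → C.F (P.cf j) ≤ C.F (P.cf r) := by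
    obtain ⟨δ, ⟨d1, d2, d3⟩, d4⟩ := Set.exists_max_image {j | j ∈ C.Pp ∧ N r ≤ N j ∧ 0 < C.S.p r j}
      (fun j => C.F (P.cf j)) (Set.toFinite _) ⟨r, hr, le_rfl, by rw [C.S.self]; omega⟩
    refine fun j h1 h2 h3 => (d4 j ⟨h1, h2, h3⟩).trans (not_lt.1 fun e => ?_)
    obtain ⟨m, m1, -, -, b1, b2⟩ := a1 δ d1 d2 d3 fun j h1 h2 h3 => d4 j ⟨h1, h2, h3⟩
    have b3 : ∀ j : ℕ, (C.S.p ((C.π ^ j) δ) r).toNat ≤ 1 := fun j => by
      have c1 := C.S.mul_le ((C.π ^ j) δ) r (fun e' => e.ne (by rw [e', C.F_pow]))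
        (C.cl.ne_neg (pow_mem_of C.π_Pp j d1) hr)
      have c2 := N2 ((C.π ^ j) δ) r
      have c3 := N1 r
      rw [N3 _ (C.p_pow j)] at c2
      refine Int.toNat_le.2 (not_lt.1 fun c4 => ?_)
      have c5 : C.S.p ((C.π ^ j) δ) r ≤ C.S.p r ((C.π ^ j) δ) := by nlinarith
      rw [Nat.cast_one] at c4
      nlinarith
    have b4 : ∀ i, 2 * ∑ j ∈ Finset.range i, (p ^ C.f) ^ j * (C.S.p ((C.π ^ j) δ) r).toNat + 1 ≤ (p ^ C.f) ^ i :=
      fun i => by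
        induction i with
        | zero => simp
        | succ i ih =>
          rw [Finset.sum_range_succ, pow_succ]
          have := Nat.mul_le_mul_left ((p ^ C.f) ^ i) (b3 i)
          have := Nat.mul_le_mul_left ((p ^ C.f) ^ i) q3
          omega
    have := b4 m
    have := (Nat.le_self_pow m1.ne' _).trans b2
    omega
  have a3 : C.π r = r := by
    obtain ⟨m, m1, m2, b1, -, b2⟩ := a1 r hr le_rfl (by rw [C.S.self]; omega) a2
    rw [Finset.sum_eq_single 0 (fun j j1 j2 => by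
      rw [C.S.zero_comm (b1 j (by omega) (Finset.mem_range.1 j1))]; rfl) (by simp; omega)] at b2
    obtain rfl : m = 1 := by
      by_contra e
      have := (Nat.pow_le_pow_left q3 2).trans ((Nat.pow_le_pow_right (by omega) (by omega : 2 ≤ m)).trans b2)
      simp [C.S.self] at this
    simpa using m2
  refine ⟨a3, or_iff_not_imp_right.2 fun h1 => ?_⟩
  obtain ⟨s, hs, h2⟩ : ∃ s ∈ C.Pp, C.S.p r s < 0 := by
    by_contra! h2
    refine h1 fun s hs j hj => ?_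
    obtain ⟨a, b, ha, hb, -, e⟩ := C.S.comb hj
    have b1 := C.cl.cl r hr s hs j hj
    have b2 := C.cl.lt_of_comb hr hs hj
    have b3 := C.cl.pos s hs
    have b4 : 2 ≤ C.S.p r j := by rw [e, C.S.self]; nlinarith [h2 s hs]
    have b5 := C.S.mul_le r j (by rintro rfl; omega) (C.cl.ne_neg hr b1)
    have b6 := C.S.pos_comm r j (by omega)
    have b7 := N2 r j
    rw [show C.S.p j r = 1 by nlinarith] at b7
    have := a2 j b1 (by nlinarith [N1 r]) (by omega)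
    omega
  have a4 : ∀ s ∈ C.Pp, C.S.p r s < 0 → C.S.p r s = -1 ∧ C.S.p s r ≤ -2 := fun s hs h2 => by
    obtain ⟨c, c1, c2, c3, -, c4⟩ := a0 r hr s hs h2
    have b1 : N s < N r := not_le.1 fun e => (a2 c c1 (c2 ▸ e) (by rw [c4, C.S.self]; omega)).not_gt c3
    have b2 := C.S.mul_le r s (by rintro rfl; omega) (C.cl.ne_neg hr hs)
    have b3 := N2 r s
    have b4 := N1 s
    have b5 : C.S.p s r < C.S.p r s := by nlinarith
    constructor <;> nlinarith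
  have a5 : C.π s = s := by
    by_contra e
    have b1 := C.π_Pp s hs
    have b2 := a4 s hs h2
    have b3 := a4 _ b1 (by rwa [← C.p_pow 1 r s, pow_one, a3] at h2)
    obtain ⟨w, hw⟩ := exists_rf' P r
    have b4 := rf_cf C.S hw s
    have b5 := p_W C.S hw.mem (w s) (C.π s)
    have b6 : w (w s) = s := P.cf_inj (by rw [rf_cf C.S hw, b4, p_lin C.S b4, C.S.self]; module)
    have b7 := congrArg C.F b4
    rw [b6, p_lin C.S (rf_cf C.S hw _), b3.1] at b5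
    rw [b2.1, map_add, neg_neg, one_smul, one_smul] at b7
    have b8 := C.p_nonpos hs.2 b1.2 (C.inv s) e
    have b9 := C.p_nonpos b1.2 hs.2 (C.inv s).symm (Ne.symm e)
    have c1 := p_lin C.S b4 (C.π s)
    have c2 := C.cl.pos r hr
    have c3 := C.cl.pos s hs
    have := C.S.mul_le (C.π s) (w s) (fun e => by rw [e, C.inv] at b7; omega)
      (fun e => by rw [e, P.cf_neg, map_neg, C.inv] at b7; omega)
    rw [b2.1] at c1
    nlinarith [b2.2, b3.2]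
  obtain ⟨a, b1, b2⟩ := C.A.exists_fix_x C.mon C.f_ne a5
  obtain ⟨w, b3, b4⟩ := exists_rf X s
  have b5 := rf_cf C.S b3 r
  have b6 := congrArg C.F b5
  have b7 := C.S.neg_comm h2
  rw [map_add, map_zsmul, map_zsmul, smul_eq_mul, smul_eq_mul] at b6
  exact ⟨X.n s a, nm_one (s := C.ν) (g := X.n s a) ▸ C.n_mem hs one_pos (fun j j1 j2 => by omega) b1 (by rwa [pow_one]),
    w, (b4 a b1).1, C.cl.cl r hr s hs _ ⟨1, _, one_pos, by omega, b5⟩, by nlinarith [C.cl.pos s hs]⟩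

end Cen

end Cfsg.Agent.IVL
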